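import Groth.Agent.LAPushLib.ProperFibre
import Groth.Agent.SmoothBCLib.VCLocAcyclic
import Groth.Agent.SmoothPushLib.Flc
import Groth.Agent.SylowFiltLib.Step

/-!
# Higher direct images along proper locally acyclic morphisms
-/

set_option autoImplicit false
set_option linter.style.haveILetI false
set_option backward.isDefEq.respectTransparency false
set_option backward.isDefEq.respectTransparency.types false
set_option maxHeartbeats 2000000
set_option synthInstance.maxHeartbeats 400000

universe u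

open CategoryTheory CategoryTheory.Limits AlgebraicGeometry Opposite IsLocalRing
open scoped TensorProduct

noncomputable section

namespace Groth.Agent.LAPushLib

attribute [local instance] Groth.Agent.S0101.result

/-- Local acyclicity gives local acyclicity relative to locally constant sheaves of invertible torsion. -/
theorem isLARel_of_isLocallyAcyclic {X S : Scheme.{u}} (f : X ⟶ S) (hf : EtRest.IsLocallyAcyclic f)
    (F : EtCoh.Ab X) (hF : EtRest.IsLocallyConstant F)
    (htor : ∀ (Ω : Type u) [Field Ω] [IsSepClosed Ω] (ξ : Spec (CommRingCat.of Ω) ⟶ X)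
      (s : (EtCoh.stalk ξ).obj F), ∃ n : ℕ, 0 < n ∧ (n : Ω) ≠ 0 ∧ n • s = 0) : SGA4h.IsLARel f F := by
  intro x RS RX _ _ _ _ _ _ _ _ _ _ _ _ hc Ω _ _ _ _ q
  let g := Hens2.specOf X x RX
  let t := Spec.map (CommRingCat.ofHom (algebraMap RX (RX ⊗[RS] Ω)))
  have hB : Hensel.IsStrictHenselization (X.presheaf.stalk x) RX := inferInstance
  haveI := hB.henselian
  haveI : IsSepClosed (IsLocalRing.ResidueField RX) := hB.isSepClosure.sep_closed
  let ι : X.residueField x →+* IsLocalRing.ResidueField RX :=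
    IsLocalRing.ResidueField.map (algebraMap (X.presheaf.stalk x) RX)
  have hac := fun (n : ℕ) (hn : (n : IsLocalRing.ResidueField RX) ≠ 0) =>
    hf x RS RX hc Ω n fun h => hn (by rw [← map_natCast ι, h, map_zero])
  haveI : ConnectedSpace ↥(Spec (CommRingCat.of (RX ⊗[RS] Ω))) := by
    obtain ⟨ℓ, hℓ, hℓk⟩ : ∃ ℓ : ℕ, ℓ.Prime ∧ (ℓ : IsLocalRing.ResidueField RX) ≠ 0 := by
      by_cases h2 : ((2 : ℕ) : IsLocalRing.ResidueField RX) = 0
      · refine ⟨3, Nat.prime_three, fun h3 => one_ne_zero (α := IsLocalRing.ResidueField RX) ?_⟩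
        calc (1 : IsLocalRing.ResidueField RX) = ((3 : ℕ) : _) - ((2 : ℕ) : _) := by push_cast; ring
          _ = 0 := by rw [h3, h2, sub_zero]
      · exact ⟨2, Nat.prime_two, h2⟩
    exact (SmoothBCLib.connected_of_H0_const hℓ (hac ℓ hℓk).2.some.toEquiv).2
  let ξ := Spec.map (CommRingCat.ofHom (IsLocalRing.residue RX))
  have htor' : ∀ s : (EtCoh.stalk ξ).obj ((EtCoh.pull g).obj F),
      ∃ n : ℕ, 0 < n ∧ (n : IsLocalRing.ResidueField RX) ≠ 0 ∧ n • s = 0 := fun s => by
    obtain ⟨s₀, rfl⟩ := (EtPtsLib.bijective_unitStalk g ξ F).2 s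
    obtain ⟨n, hn, hn0, hns⟩ := htor (IsLocalRing.ResidueField RX) (ξ ≫ g) s₀
    refine ⟨n, hn, hn0, ?_⟩
    exact ((map_nsmul (EtPtsLib.unitStalk g ξ F).hom n s₀).symm).trans
      ((congrArg (EtPtsLib.unitStalk g ξ F).hom hns).trans (map_zero _))
  exact SmoothBCLib.bijective_Hpull_locConst RX t (fun d hd => (hac d hd).1)
    ((EtCoh.pull g).obj F) (((FLCLib.locallyConstant_iff F).1 hF).pull g) htor' q

/-- The constant sheaf of an invertible order. -/
theorem isLARel_const {X S : Scheme.{u}} (f : X ⟶ S) (hf : EtRest.IsLocallyAcyclic f) (n : ℕ) (hn0 : 0 < n)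
    (hn : IsUnit (n : Γ(S, ⊤))) : SGA4h.IsLARel f (EtCoh.const X (ZMod n)) := by
  haveI : NeZero n := ⟨hn0.ne'⟩
  refine isLARel_of_isLocallyAcyclic f hf _
    ((FLCLib.locallyConstant_iff _).2 (((FLCLib.finiteLocallyConstant_iff _).1
      (SylowFiltLib.isFiniteLocallyConstant_const X (ZMod n))).mono fun _ _ => trivial))
    fun Ω _ _ ξ s => ⟨n, hn0, ?_, ?_⟩
  · have h1 : IsUnit (n : Γ(Spec (CommRingCat.of Ω), ⊤)) := by simpa using hn.map (ξ ≫ f).appTop.hom
    have h2 := h1.map (Scheme.ΓSpecIso (CommRingCat.of Ω)).hom.hom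
    rw [map_natCast] at h2
    exact h2.ne_zero
  · obtain ⟨V, l, t, rfl⟩ :=
      (Scheme.pointSmallEtale ξ).toPresheafFiber_jointly_surjective (P := (EtCoh.const X (ZMod n)).obj) s
    exact (map_nsmul ((Scheme.pointSmallEtale ξ).toPresheafFiber V l (EtCoh.const X (ZMod n)).obj).hom n t).symm.trans
      ((congrArg ((Scheme.pointSmallEtale ξ).toPresheafFiber V l (EtCoh.const X (ZMod n)).obj).hom
        (PBCLib.killedBy_const X n V t)).trans (map_zero _))

/-- Proper direct images of finite locally constant sheaves, relative local acyclicity. -/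
theorem flc_Rpush_of_isLARel {X S : Scheme.{u}} [CompactSpace S] [QuasiSeparatedSpace S] (f : X ⟶ S) [IsProper f] [LocallyOfFinitePresentation f]
    (F : EtCoh.Ab X) (hc : EtPBC.IsConstructible F) {N : ℕ} (hN : 0 < N) (hF : EtCoh.KilledBy N F)
    (hla : SGA4h.IsLARel f F) (q : ℕ) : EtCoh.IsFiniteLocallyConstant ((EtCoh.Rpush f q).obj F) := by
  have hT : EtCoh.IsTorsion F := PBCLib.isTorsion_of_killedBy' hN hF
  have hc' : EtPBC.IsConstructible ((EtCoh.Rpush f q).obj F) :=
    FinPushLib.isConstructible_Rpush SmoothPushLib.smoothCurveInput FinPushLib.modelInput f N hN F hc hF q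
  exact SmoothPushLib.isFiniteLocallyConstant_of_spec _ hc' fun Ω Ω' _ _ _ _ ξ ξ' φ =>
    SmoothPushLib.bijective_sheafFiber
      (SmoothPushLib.injOnStrictLoc_Rpush f hN F hF q fun y R _ _ _ _ _ _ _ =>
        (bijective_Hpull_properFibre f F hT hla y R _ q).1)
      (SmoothPushLib.surjOnStrictLoc_Rpush f hN F hF q fun y R _ _ _ _ _ _ _ =>
        (bijective_Hpull_properFibre f F hT hla y R _ q).2)
      (fun Ω₀ _ _ η => FinPushLib.finite_stalk hc' η) φ

/-- Proper locally acyclic direct images of constant coefficients. -/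
theorem flc_Rpush_const {X S : Scheme.{u}} [CompactSpace S] [QuasiSeparatedSpace S] (f : X ⟶ S) [IsProper f] [LocallyOfFinitePresentation f]
    (hf : EtRest.IsLocallyAcyclic f) (n : ℕ) (hn0 : 0 < n) (hn : IsUnit (n : Γ(S, ⊤))) (q : ℕ) :
    EtCoh.IsFiniteLocallyConstant ((EtCoh.Rpush f q).obj (EtCoh.const X (ZMod n))) := by
  haveI : NeZero n := ⟨hn0.ne'⟩
  exact flc_Rpush_of_isLARel f _
    (FLCLib.isConstructible_of_flc (SylowFiltLib.isFiniteLocallyConstant_const X (ZMod n)))
    hn0 (PBCLib.killedBy_const X n) (isLARel_const f hf n hn0 hn) q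

end Groth.Agent.LAPushLib
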