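import Groth.Agent.SmoothBCLib.LARelFibre
import Groth.Agent.SmoothBCLib.RowsProperFibre

/-!
# Geometric fibres of proper morphisms locally acyclic relative to a sheaf
-/

set_option autoImplicit false
set_option linter.style.haveILetI false
set_option backward.isDefEq.respectTransparency false
set_option backward.isDefEq.respectTransparency.types false
set_option maxHeartbeats 2000000
set_option synthInstance.maxHeartbeats 400000

universe u

open CategoryTheory CategoryTheory.Limits AlgebraicGeometry Opposite IsLocalRing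

noncomputable section

namespace Groth.Agent.LAPushLib

attribute [local instance] Groth.Agent.S0101.result

/-- The cohomology over a strict localization of the base restricts bijectively to the geometric fibres. -/
theorem bijective_Hpull_properFibre {X S : Scheme.{u}} (f : X ⟶ S) [IsProper f] (F : EtCoh.Ab X)
    (hF : EtCoh.IsTorsion F) (hla : SGA4h.IsLARel f F) (s : S) (RS : Type u) [CommRing RS] [HenselianLocalRing RS]
    [IsSepClosed (ResidueField RS)] [Algebra (S.presheaf.stalk s) RS]
    [IsLocalHom (algebraMap (S.presheaf.stalk s) RS)] [Hensel.IsStrictHenselization (S.presheaf.stalk s) RS]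
    {Ω : Type u} [Field Ω] [IsSepClosed Ω] (ζ : Spec (CommRingCat.of Ω) ⟶ Spec (CommRingCat.of RS)) (q : ℕ) :
    Function.Bijective (EtCore.Hpull (pullback.fst (pullback.snd f (Hens2.specOf S s RS)) ζ)
      ((EtCoh.pull (pullback.fst f (Hens2.specOf S s RS))).obj F) q) := by
  let p := pullback.fst f (Hens2.specOf S s RS)
  let f' := pullback.snd f (Hens2.specOf S s RS)
  haveI : IsProper f' := MorphismProperty.pullback_snd _ _ ‹_›
  let F' := (EtCoh.pull p).obj F
  let h := pullback.fst f' ζ
  haveI : IsAffineHom ζ := inferInstance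
  haveI : IsAffineHom h := MorphismProperty.pullback_fst _ _ inferInstance
  let i := pullback.fst f' (Spec.map (CommRingCat.ofHom (residue RS)))
  have ct : IsPullback h (pullback.snd f' ζ) f'
      (Spec.map (CommRingCat.ofHom (Spec.preimage ζ).hom)) := by
    rw [CommRingCat.ofHom_hom, Spec.map_preimage]
    exact IsPullback.of_hasPullback f' ζ
  obtain ⟨hu₀, hz⟩ := SmoothBCLib.isIso_pull_unit_of_isLARel f F hla s RS f' p (IsPullback.of_hasPullback _ _) Ω
    (Spec.preimage ζ).hom h (pullback.snd f' ζ) ct i _ (IsPullback.of_hasPullback f' _)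
  have hFt : EtCoh.IsTorsion F' :=
    RpushTorsLib.isTorsion_of_isLTorsion (AcycCompLib.isLTorsion_pull p (RpushTorsLib.isLTorsion_univ hF))
  have hGt : EtCoh.IsTorsion ((EtCoh.pull h).obj F') :=
    RpushTorsLib.isTorsion_of_isLTorsion (AcycCompLib.isLTorsion_pull h (RpushTorsLib.isLTorsion_univ hFt))
  have hcl : ∀ (G : EtCoh.Ab (pullback f (Hens2.specOf S s RS))), EtCoh.IsTorsion G → ∀ n,
      Function.Bijective (EtCore.Hpull i G n) := fun G hG n =>
    PBCLib.bijective_Hpull_closedFibre (fun {X S} g _ => PBCLib.bcAll_of_proper g) RS f' G hG n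
  have hvan : ∀ r < q, ∀ n, Subsingleton
      (EtCoh.H _ ((EtCoh.Rpush h (r + 1)).obj ((EtCoh.pull h).obj F')) n) := by
    intro r _ n
    let G := (EtCoh.Rpush h (r + 1)).obj ((EtCoh.pull h).obj F')
    haveI := PBCLib.HF_additive (pullback f' (Spec.map (CommRingCat.ofHom (residue RS)))) n
    haveI := (PBCLib.subsingleton_H_iff _ n).2 ((EtCoh.HF _ n).map_isZero (hz (r + 1) r.succ_pos))
    exact (hcl G (RpushTorsLib.isTorsion_of_isLTorsion
      (RpushTorsLib.isLTorsion_Rpush h _ (RpushTorsLib.isLTorsion_univ hGt) (r + 1))) n).1.subsingleton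
  have hu : ∀ n, Function.Bijective (Sheaf.H.map ((EtCoh.pullPushAdj h).unit.app F') n) := by
    intro n
    let u := (EtCoh.pullPushAdj h).unit.app F'
    haveI : IsIso ((EtCoh.pull i).map u) := hu₀
    have e : ⇑(EtCore.Hpull i ((EtCoh.push h).obj ((EtCoh.pull h).obj F')) n) ∘ ⇑(Sheaf.H.map u n) =
        ⇑(Sheaf.H.map ((EtCoh.pull i).map u) n) ∘ ⇑(EtCore.Hpull i F' n) := funext fun x => CompBCLib.Hpull_map i u x
    refine (Function.Bijective.of_comp_iff' (hcl _ (EtTraceLib.isTorsion_push h hGt) n) _).1 ?_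
    rw [e]
    exact (ConcreteCategory.bijective_of_isIso ((EtCoh.HF _ n).map ((EtCoh.pull i).map u))).comp (hcl F' hFt n)
  haveI : (EtCoh.push h).Additive := (EtCoh.pullPushAdj h).right_adjoint_additive
  haveI : (EtCoh.pull h).Additive := (EtCoh.pullPushAdj h).left_adjoint_additive
  haveI : PreservesColimitsOfSize.{0, 0} (EtCoh.pull h) := (EtCoh.pullPushAdj h).leftAdjoint_preservesColimits
  haveI : PreservesFiniteColimits (EtCoh.pull h) := PreservesColimitsOfSize.preservesFiniteColimits _
  have e : ⇑(EtCore.Hpull h F' q) = ⇑(EtLim.HofPush h ((EtCoh.pull h).obj F') q) ∘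
      ⇑(Sheaf.H.map ((EtCoh.pullPushAdj h).unit.app F') q) :=
    funext fun x => AcycCompLib.Hpull_eq_HofPush_unit h q F' x
  have h' := SmoothBCLib.transpose_upTo_van (EtCoh.pullPushAdj h) (EtCoh.const (pullback f (Hens2.specOf S s RS)) ℤ)
    q q ((EtCoh.pull h).obj F') hvan
  rw [e, AcycCompLib.HofPush_eq]
  exact ((AcycCompLib.bijective_fromPull h _ q).comp (h'.1 le_rfl)).comp (hu q)

end Groth.Agent.LAPushLib
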